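import Mathlib
import Cfsg.Prelude.Def_FischerSpaces
import Cfsg.Prelude.Def_CaseTheorems

/-! Lifting connectedness of commuting graphs along an inverted centre of odd order. -/

set_option autoImplicit false

namespace Cfsg.Agent.Fischer28
open Cfsg

open scoped commutatorElement

variable {G : Type*} [Group G]

theorem memConjOf {M : Type*} [Monoid M] {a b : M} : a ∈ conjugatesOf b ↔ IsConj b a := Iff.rfl

theorem commGraph_lift (L : Subgroup G) [L.Normal] (hL : IsQuasisimple ↥L) (d : G)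
    (hd : orderOf d = 2) (hgen : L ⊔ Subgroup.zpowers d = ⊤)
    (hodd : Odd (Nat.card ↥(Subgroup.center ↥L)))
    (hinv : ∀ c ∈ (Subgroup.center ↥L).map L.subtype, d * c * d⁻¹ = c⁻¹)
    [hn : ((Subgroup.center ↥L).map L.subtype).Normal]
    (hconn : (commutingGraph (conjugatesOf
      (QuotientGroup.mk d : G ⧸ (Subgroup.center ↥L).map L.subtype))).Connected) :
    (commutingGraph (conjugatesOf d)).Connected := by
  classical
  set Z := (Subgroup.center ↥L).map L.subtype with hZdef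
  set Γ := commutingGraph (conjugatesOf d) with hΓ
  have hcZ : ∀ l ∈ L, ∀ z ∈ Z, l * z = z * l := by
    rintro l hl _ ⟨c, hc, rfl⟩
    exact congrArg Subtype.val (Subgroup.mem_center_iff.1 hc ⟨l, hl⟩)
  have hinv' : ∀ e ∈ conjugatesOf d, ∀ z ∈ Z, e * z * e⁻¹ = z⁻¹ := by
    intro e he z hz
    obtain ⟨g, rfl⟩ := isConj_iff.1 (memConjOf.1 he)
    have h1 := hinv _ (hn.conj_mem z hz g⁻¹)
    calc g * d * g⁻¹ * z * (g * d * g⁻¹)⁻¹ = g * (d * (g⁻¹ * z * g⁻¹⁻¹) * d⁻¹) * g⁻¹ := by group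
      _ = g * (g⁻¹ * z * g⁻¹⁻¹)⁻¹ * g⁻¹ := by rw [h1]
      _ = z⁻¹ := by group
  have hoddZ : Odd (Nat.card ↥Z) := by
    rw [hZdef, Subgroup.card_map_of_injective L.subtype_injective]; exact hodd
  have hroot : ∀ z ∈ Z, ∃ w ∈ Z, w ^ 4 = z := by
    intro z hz
    have hcop : (Nat.card ↥Z).Coprime 4 :=
      (Nat.coprime_two_right.2 hoddZ).pow_right 2
    obtain ⟨w, hw⟩ := (powCoprime hcop).surjective ⟨z, hz⟩
    exact ⟨w, w.2, by simpa using congrArg Subtype.val hw⟩
  have hsq : ∀ e ∈ conjugatesOf d, e * e = 1 := by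
    intro e he
    obtain ⟨g, rfl⟩ := isConj_iff.1 (memConjOf.1 he)
    have : d * d = 1 := by rw [← pow_two, ← hd, pow_orderOf_eq_one]
    calc g * d * g⁻¹ * (g * d * g⁻¹) = g * (d * d) * g⁻¹ := by group
      _ = 1 := by rw [this]; group
  have hconjD : ∀ e ∈ conjugatesOf d, ∀ g : G, g * e * g⁻¹ ∈ conjugatesOf d := fun e he g =>
    memConjOf.2 ((memConjOf.1 he).trans (isConj_iff.2 ⟨g, rfl⟩))
  have hw2 : ∀ e ∈ conjugatesOf d, ∀ w ∈ Z, w * e * w⁻¹ = w ^ 2 * e := by
    intro e he w hw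
    have h1 := hinv' e he w⁻¹ (inv_mem hw)
    rw [inv_inv] at h1
    calc w * e * w⁻¹ = w * (e * w⁻¹ * e⁻¹) * e := by group
      _ = w ^ 2 * e := by rw [h1, pow_two]
  -- commuting images lift
  have lift : ∀ a ∈ conjugatesOf d, ∀ b ∈ conjugatesOf d,
      Commute (a : G ⧸ Z) (b : G ⧸ Z) →
      ∃ b' ∈ conjugatesOf d, (b' : G ⧸ Z) = b ∧ Commute a b' := by
    intro a ha b hb hab
    have hz : a * b * (a * b) ∈ Z := by
      rw [← QuotientGroup.eq_one_iff]
      have ea : (a : G ⧸ Z) * a = 1 := by rw [← QuotientGroup.mk_mul, hsq a ha]; rfl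
      have eb : (b : G ⧸ Z) * b = 1 := by rw [← QuotientGroup.mk_mul, hsq b hb]; rfl
      simp only [QuotientGroup.mk_mul]
      calc (a : G ⧸ Z) * b * (a * b) = a * (b * a) * b := by simp only [mul_assoc]
        _ = a * (a * b) * b := by rw [hab.eq]
        _ = (a * a) * (b * b) := by simp only [mul_assoc]
        _ = 1 := by rw [ea, eb, one_mul]
    obtain ⟨w, hw, hw4⟩ := hroot _ hz
    refine ⟨w * b * w⁻¹, hconjD b hb w, ?_, ?_⟩
    · have : (w : G ⧸ Z) = 1 := (QuotientGroup.eq_one_iff w).2 hw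
      simp [this]
    · rw [hw2 b hb w hw]
      have cb := hinv' b hb (w ^ 2) (pow_mem hw 2)
      have ca := hinv' a ha (w ^ 2) (pow_mem hw 2)
      set u := w ^ 2
      have hu : u * u = a * b * (a * b) := by rw [← pow_add, hw4]
      have e1 : a * u = u⁻¹ * a := by rw [← ca]; group
      have e2 : b * u = u⁻¹ * b := by rw [← cb]; group
      have e3 : a * u⁻¹ = u * a := by
        calc a * u⁻¹ = u * (u⁻¹ * a) * u⁻¹ := by group
          _ = u * (a * u) * u⁻¹ := by rw [e1]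
          _ = u * a := by group
      have key : (a * (u * b)) * (a * (u * b)) = 1 := by
        calc (a * (u * b)) * (a * (u * b)) = (a * u) * b * (a * u) * b := by group
          _ = u⁻¹ * a * (b * u⁻¹) * a * b := by rw [e1]; group
          _ = u⁻¹ * a * (u * b) * a * b := by
            rw [show b * u⁻¹ = u * b by
              calc b * u⁻¹ = u * (u⁻¹ * b) * u⁻¹ := by group
                _ = u * (b * u) * u⁻¹ := by rw [e2]
                _ = u * b := by group]
          _ = u⁻¹ * (a * u) * (b * a * b) := by group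
          _ = u⁻¹ * u⁻¹ * (a * b * (a * b)) := by rw [e1]; group
          _ = 1 := by rw [← hu]; group
      have hb' : (u * b) * (u * b) = 1 := by
        have := hsq _ (hconjD b hb w)
        rwa [hw2 b hb w hw] at this
      calc a * (u * b) = (a * (u * b))⁻¹ := (inv_eq_of_mul_eq_one_right key).symm
        _ = (u * b)⁻¹ * a⁻¹ := mul_inv_rev _ _
        _ = (u * b) * a := by
          rw [inv_eq_of_mul_eq_one_right hb', inv_eq_of_mul_eq_one_right (hsq a ha)]
  let d0 : conjugatesOf d := ⟨d, mem_conjugatesOf_self⟩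
  let R : G → Prop := fun e => ∃ he : e ∈ conjugatesOf d, Γ.Reachable d0 ⟨e, he⟩
  have hfib : ∀ x : conjugatesOf (d : G ⧸ Z), ∃ a, R a ∧ (a : G ⧸ Z) = x := by
    intro x
    have hr : Relation.ReflTransGen (commutingGraph (conjugatesOf (d : G ⧸ Z))).Adj
        ⟨(d : G ⧸ Z), mem_conjugatesOf_self⟩ x :=
      (SimpleGraph.reachable_iff_reflTransGen _ _).1 (hconn.preconnected _ _)
    induction hr with
    | refl => exact ⟨d, ⟨mem_conjugatesOf_self, SimpleGraph.Reachable.refl _⟩, rfl⟩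
    | @tail x y _ hxy ih =>
      obtain ⟨a, ⟨ha, hra⟩, hax⟩ := ih
      obtain ⟨g, hg⟩ := isConj_iff.1 (memConjOf.1 y.2)
      obtain ⟨g, rfl⟩ := QuotientGroup.mk_surjective g
      have hbD : g * d * g⁻¹ ∈ conjugatesOf d := hconjD d mem_conjugatesOf_self g
      have hby : ((g * d * g⁻¹ : G) : G ⧸ Z) = y := by rw [← hg]; rfl
      have hc : Commute (a : G ⧸ Z) ((g * d * g⁻¹ : G) : G ⧸ Z) := by
        rw [hax, hby]
        rcases ((SimpleGraph.fromRel_adj _ _ _).1 hxy).2 with h | h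
        · exact h
        · exact h.symm
      obtain ⟨b', hb', hbq, hab⟩ := lift a ha _ hbD hc
      refine ⟨b', ⟨hb', ?_⟩, hbq.trans hby⟩
      by_cases hne : a = b'
      · subst hne; exact hra
      · exact hra.trans (SimpleGraph.Adj.reachable
          ((SimpleGraph.fromRel_adj _ _ _).2 ⟨fun e => hne (congrArg Subtype.val e), Or.inl hab⟩))
  have hmove : ∀ (g : G) {x y : conjugatesOf d}, Γ.Reachable x y →
      Γ.Reachable ⟨g * x * g⁻¹, hconjD _ x.2 g⟩ ⟨g * y * g⁻¹, hconjD _ y.2 g⟩ := by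
    intro g x y h
    let f : Γ →g Γ := ⟨fun v => ⟨g * v * g⁻¹, hconjD _ v.2 g⟩, fun {v w} hvw => by
      obtain ⟨hne, hc⟩ := (SimpleGraph.fromRel_adj _ _ _).1 hvw
      refine (SimpleGraph.fromRel_adj _ _ _).2 ⟨fun e => hne (Subtype.ext ?_), ?_⟩
      · exact mul_left_cancel (mul_right_cancel (congrArg Subtype.val e : g * (v : G) * g⁻¹ = g * w * g⁻¹))
      · exact hc.imp (fun h => (Commute.conj_iff g).2 h) (fun h => (Commute.conj_iff g).2 h)⟩
    exact h.map f
  have hcongr : ∀ {a b : G}, a = b → R a → R b := fun h ha => h ▸ ha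
  have hRconj : ∀ g h : G, R (g * d * g⁻¹) → R (h * d * h⁻¹) → R (g * h * d * (g * h)⁻¹) := by
    rintro g h ⟨hg, rg⟩ ⟨hh, rh⟩
    refine hcongr (a := g * (h * d * h⁻¹) * g⁻¹) (by group) ⟨hconjD _ hh g, rg.trans ?_⟩
    exact hmove g rh
  let H : Subgroup G :=
    { carrier := {g | R (g * d * g⁻¹)}
      mul_mem' := fun ha hb => hRconj _ _ ha hb
      one_mem' := hcongr (a := d) (by group) ⟨mem_conjugatesOf_self, SimpleGraph.Reachable.refl _⟩
      inv_mem' := by
        rintro g ⟨hg, rg⟩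
        refine ⟨hconjD _ mem_conjugatesOf_self _, ?_⟩
        have h1 := (hmove g⁻¹ rg).symm
        convert h1 using 2
        group }
  have hmemH : ∀ g, g ∈ H ↔ R (g * d * g⁻¹) := fun g => Iff.rfl
  have hsup : H ⊔ Z = ⊤ := by
    refine eq_top_iff.2 fun g _ => ?_
    obtain ⟨a, ⟨ha, ra⟩, hax⟩ := hfib ⟨((g * d * g⁻¹ : G) : G ⧸ Z),
      memConjOf.2 (isConj_iff.2 ⟨(g : G ⧸ Z), rfl⟩)⟩
    obtain ⟨h, rfl⟩ := isConj_iff.1 (memConjOf.1 ha)
    have hh : h ∈ H := (hmemH h).2 ⟨ha, ra⟩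
    have hz : (h⁻¹ * g) * d * (h⁻¹ * g)⁻¹ * d⁻¹ ∈ Z := by
      rw [← QuotientGroup.eq_one_iff]
      simp only [QuotientGroup.mk_mul, QuotientGroup.mk_inv] at hax ⊢
      calc (h : G ⧸ Z)⁻¹ * g * d * ((h : G ⧸ Z)⁻¹ * g)⁻¹ * (d : G ⧸ Z)⁻¹
          = (h : G ⧸ Z)⁻¹ * (g * d * (g : G ⧸ Z)⁻¹) * h * (d : G ⧸ Z)⁻¹ := by group
        _ = (h : G ⧸ Z)⁻¹ * (h * d * (h : G ⧸ Z)⁻¹) * h * (d : G ⧸ Z)⁻¹ := by rw [hax]
        _ = 1 := by group
    obtain ⟨v, hv, hv4⟩ := hroot _ hz
    set w := v ^ 2 with hw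
    have hwd := hw2 d mem_conjugatesOf_self w (pow_mem hv 2)
    have hk : (w⁻¹ * (h⁻¹ * g)) ∈ H := by
      refine hcongr (a := d) ?_ ⟨mem_conjugatesOf_self, SimpleGraph.Reachable.refl _⟩
      have e : h⁻¹ * g * d * (h⁻¹ * g)⁻¹ = w * d * w⁻¹ := by
        rw [hwd, hw, ← pow_mul, hv4]; group
      calc d = w⁻¹ * (w * d * w⁻¹) * w := by group
        _ = w⁻¹ * (h⁻¹ * g * d * (h⁻¹ * g)⁻¹) * w := by rw [e]
        _ = _ := by group
    have : g = h * w * (w⁻¹ * (h⁻¹ * g)) := by group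
    rw [this]
    exact mul_mem (mul_mem (Subgroup.mem_sup_left hh) (Subgroup.mem_sup_right (pow_mem hv 2)))
      (Subgroup.mem_sup_left hk)
  have hLH : L ≤ H := by
    have hcomm : ∀ x ∈ L, ∀ y ∈ L, ⁅x, y⁆ ∈ H := by
      intro x hx y hy
      have hmul : ∀ g : G, g ∈ L → ∃ h ∈ H, ∃ z ∈ Z, g = h * z ∧ h ∈ L := by
        intro g hg
        have : g ∈ ((H ⊔ Z : Subgroup G) : Set G) := by rw [hsup]; exact Subgroup.mem_top g
        rw [Subgroup.mul_normal] at this
        obtain ⟨h, hh, z, hz, rfl⟩ := Set.mem_mul.1 this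
        have hzL : z ∈ L := by obtain ⟨c, -, rfl⟩ := hz; exact c.2
        exact ⟨h, hh, z, hz, rfl, by simpa using mul_mem hg (inv_mem hzL)⟩
      obtain ⟨a, ha, z, hz, rfl, haL⟩ := hmul x hx
      obtain ⟨b, hb, t, ht, rfl, hbL⟩ := hmul y hy
      have c1 : Commute z b := (hcZ b hbL z hz).symm
      have c2 : Commute a t := hcZ a haL t ht
      have c3 : Commute z t := (hcZ z (by obtain ⟨c, -, rfl⟩ := hz; exact c.2) t ht)
      have e : ⁅a * z, b * t⁆ = ⁅a, b⁆ := by
        have hzt : Commute z (b * t) := c1.mul_right c3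
        have e1 : a * z * (b * t) = a * b * (t * z) := by
          rw [mul_assoc a z, hzt.eq]; group
        have e2 : b * t * (a * z) = b * a * (t * z) := by
          rw [mul_assoc b t, ← mul_assoc t a, ← c2.eq]; group
        calc ⁅a * z, b * t⁆ = (a * z * (b * t)) * (b * t * (a * z))⁻¹ := by
              rw [commutatorElement_def]; group
          _ = (a * b * (t * z)) * (b * a * (t * z))⁻¹ := by rw [e1, e2]
          _ = ⁅a, b⁆ := by rw [commutatorElement_def]; group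
      rw [e, commutatorElement_def]
      exact mul_mem (mul_mem (mul_mem ha hb) (inv_mem ha)) (inv_mem hb)
    have hle : commutator ↥L ≤ H.subgroupOf L := by
      rw [commutator_eq_closure, Subgroup.closure_le]
      rintro _ ⟨x, y, rfl⟩
      exact hcomm x x.2 y y.2
    intro x hx
    exact hle (hL.1.commutator_eq_top.symm ▸ Subgroup.mem_top (⟨x, hx⟩ : L))
  have hall : H = ⊤ := by
    refine eq_top_iff.2 (hgen ▸ sup_le hLH ?_)
    rw [Subgroup.zpowers_le]
    exact hcongr (a := d) (by group) ⟨mem_conjugatesOf_self, SimpleGraph.Reachable.refl _⟩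
  refine (SimpleGraph.connected_iff_exists_forall_reachable Γ).2 ⟨d0, fun e => ?_⟩
  obtain ⟨g, hg⟩ := isConj_iff.1 (memConjOf.1 e.2)
  have hgH : g ∈ H := hall ▸ Subgroup.mem_top g
  obtain ⟨_, hr⟩ := (hmemH g).1 hgH
  convert hr using 2
  exact hg.symm

end Cfsg.Agent.Fischer28
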