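import Mathlib
import Cfsg.Prelude.Def_ClassicalGeometry

/-! Commuting reflections. -/

set_option autoImplicit false

namespace Cfsg.Agent.Fischer28
open Cfsg Matrix

variable {n : ℕ} {F : Type*} [Field F]

theorem polarVec_dot (Q : QuadraticForm F (Fin n → F)) (v x : Fin n → F) :
    polarVec (⇑Q) v ⬝ᵥ x = QuadraticMap.polar (⇑Q) v x := by
  conv_rhs => rw [pi_eq_sum_univ' x]
  rw [← QuadraticMap.polarBilin_apply_apply, map_sum]
  refine Finset.sum_congr rfl fun i _ => ?_
  rw [map_smul, QuadraticMap.polarBilin_apply_apply, smul_eq_mul, mul_comm]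
  rfl

theorem refl_comm_iff (Q : QuadraticForm F (Fin n → F)) (u v : Fin n → F) (hu : Q u ≠ 0)
    (huv : Q u = Q v) (h1 : v ≠ u) (h2 : v ≠ -u) (htwo : (2 : F) ≠ 0) :
    Commute (reflectionMatrix (⇑Q) u) (reflectionMatrix (⇑Q) v) ↔
      QuadraticMap.polar (⇑Q) u v = 0 := by
  set t := QuadraticMap.polar (⇑Q) u v with ht
  set c := (Q u)⁻¹ with hc
  have happly : ∀ w x : Fin n → F, reflectionMatrix (⇑Q) w *ᵥ x =
      x - ((Q w)⁻¹ * QuadraticMap.polar (⇑Q) w x) • w := by
    intro w x
    rw [reflectionMatrix, Matrix.sub_mulVec, Matrix.one_mulVec, Matrix.smul_mulVec]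
    congr 1
    funext i
    simp only [Pi.smul_apply, smul_eq_mul, Matrix.mulVec, dotProduct, Matrix.vecMulVec_apply]
    rw [← polarVec_dot, dotProduct]
    simp only [Finset.mul_sum, Finset.sum_mul]
    exact Finset.sum_congr rfl fun j _ => by ring
  have hadd : ∀ w x y : Fin n → F, ∀ a : F, QuadraticMap.polar (⇑Q) w (x - a • y) =
      QuadraticMap.polar (⇑Q) w x - a * QuadraticMap.polar (⇑Q) w y := by
    intro w x y a
    simp only [← QuadraticMap.polarBilin_apply_apply, map_sub, map_smul, smul_eq_mul]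
  have hcomm : QuadraticMap.polar (⇑Q) v u = t := QuadraticMap.polar_comm _ _ _
  constructor
  · intro hcm
    by_contra ht0
    have h := congrArg (fun M => M *ᵥ u) hcm.eq
    simp only [← Matrix.mulVec_mulVec, happly, hadd, ← huv, ← hc, hcomm, ← ht] at h
    have hself : c * QuadraticMap.polar (⇑Q) u u = 2 := by
      rw [hc, QuadraticMap.polar_self, nsmul_eq_mul, Nat.cast_ofNat, mul_comm (2 : F), ← mul_assoc,
        inv_mul_cancel₀ hu, one_mul]
    rw [hself] at h
    have hc0 : c ≠ 0 := inv_ne_zero hu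
    obtain ⟨k, hk⟩ : ∃ k : F, v = k • u := by
      refine ⟨(c * t) / 2, funext fun i => ?_⟩
      have hi := congrFun h i
      simp only [Pi.sub_apply, Pi.smul_apply, smul_eq_mul] at hi
      simp only [Pi.smul_apply, smul_eq_mul]
      have h3 : c * t * (2 * v i - c * t * u i) = 0 := by linear_combination -hi + (-(u i)) * hself
      rcases mul_eq_zero.1 h3 with h4 | h4
      · exact absurd h4 (mul_ne_zero hc0 ht0)
      · field_simp
        linear_combination h4
    have hq : k * k = 1 := by
      have e := huv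
      rw [hk, QuadraticMap.map_smul, smul_eq_mul] at e
      exact mul_right_cancel₀ hu (by rw [one_mul]; exact e.symm)
    rcases mul_self_eq_one_iff.1 hq with rfl | rfl
    · exact h1 (by rw [hk, one_smul])
    · exact h2 (by rw [hk, neg_one_smul])
  · intro h0
    refine Matrix.ext_of_mulVec_single fun j => ?_
    rw [← Matrix.mulVec_mulVec, ← Matrix.mulVec_mulVec, happly, happly, happly, happly, hadd, hadd,
      hcomm, ← ht]
    rw [h0]
    funext i
    simp only [Pi.sub_apply, Pi.smul_apply, smul_eq_mul]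
    ring

end Cfsg.Agent.Fischer28
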